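import Cfsg.Agent.Lib.TC.Chain
import Cfsg.Agent.Lib.Schur.Fi23c.E1.CT0

namespace Cfsg.Agent.Lib.Schur.Fi23c.E1.Tab

open Cfsg.Agent.Lib.TC.Core Cfsg.Agent.Lib.TC.Enc Cfsg.Agent.Lib.TC.Pres Cfsg.Agent.Lib.TC.Perm Cfsg.Agent.Lib.TC.Main Cfsg.Agent.Lib.TC.Chain

set_option maxRecDepth 100000

/-- The chunks. -/
noncomputable def ctree : Tr Nat := Cfsg.Agent.Lib.Schur.Fi23c.E1.CT0.tree

/-- The relator rotations. -/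
noncomputable def rotT : Tr (List Nat) := (Tr.node (Tr.node (Tr.node (Tr.node (Tr.node (Tr.node (Tr.node (Tr.leaf []) (Tr.leaf [7,7])) (Tr.node (Tr.leaf [5,2,5,2]) (Tr.leaf []))) (Tr.node (Tr.node (Tr.leaf [2,1,2,1,2,1]) (Tr.leaf [])) (Tr.node (Tr.leaf [6,4,6,4]) (Tr.leaf [])))) (Tr.node (Tr.node (Tr.node (Tr.leaf [4,0,4,0]) (Tr.leaf [])) (Tr.node (Tr.leaf [5,3,5,3]) (Tr.leaf []))) (Tr.node (Tr.node (Tr.leaf [6,1,6,1]) (Tr.leaf [])) (Tr.node (Tr.leaf [7,6,7,6]) (Tr.leaf []))))) (Tr.node (Tr.node (Tr.node (Tr.node (Tr.leaf [2,0,2,0]) (Tr.leaf [])) (Tr.node (Tr.leaf [7,2,7,2,7,2]) (Tr.leaf []))) (Tr.node (Tr.node (Tr.leaf [4,1,4,1]) (Tr.leaf [])) (Tr.node (Tr.leaf [6,5,6,5,6,5]) (Tr.leaf [])))) (Tr.node (Tr.node (Tr.node (Tr.leaf [6,0,6,0]) (Tr.leaf [])) (Tr.node (Tr.leaf [7,3,7,3]) (Tr.leaf []))) (Tr.node (Tr.node (Tr.leaf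 [3,2,3,2,3,2]) (Tr.leaf [])) (Tr.node (Tr.leaf [3,3]) (Tr.leaf [])))))) (Tr.node (Tr.node (Tr.node (Tr.node (Tr.node (Tr.leaf [1,0,1,0,1,0]) (Tr.leaf [])) (Tr.node (Tr.leaf [6,2,6,2]) (Tr.leaf []))) (Tr.node (Tr.node (Tr.leaf [3,1,3,1]) (Tr.leaf [])) (Tr.node (Tr.leaf [7,4,7,4]) (Tr.leaf [])))) (Tr.node (Tr.node (Tr.node (Tr.leaf [5,0,5,0]) (Tr.leaf [])) (Tr.node (Tr.leaf [6,3,6,3]) (Tr.leaf []))) (Tr.node (Tr.node (Tr.leaf [7,1,7,1]) (Tr.leaf [])) (Tr.node (Tr.leaf [1,1]) (Tr.leaf []))))) (Tr.node (Tr.node (Tr.node (Tr.node (Tr.leaf [3,0,3,0]) (Tr.leaf [])) (Tr.node (Tr.leaf [4,3,4,3,4,3]) (Tr.leaf []))) (Tr.node (Tr.node (Tr.leaf [5,1,5,1]) (Tr.leaf [])) (Tr.node (Tr.leaf [7,5,7,5]) (Tr.leaf [])))) (Tr.node (Tr.node (Tr.node (Tr.leaf [7,0,7,0]) (Tr.leaf [])) (Tr.node (Tr.leaf [5,4,5,4,5,4]) (Tr.leaf []))) (Tr.node (Tr.node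 (Tr.leaf [4,2,4,2]) (Tr.leaf [])) (Tr.node (Tr.leaf [5,5]) (Tr.leaf []))))))) (Tr.node (Tr.node (Tr.node (Tr.node (Tr.node (Tr.node (Tr.leaf [0,1,0,1,0,1]) (Tr.leaf [])) (Tr.node (Tr.leaf [2,6,2,6]) (Tr.leaf []))) (Tr.node (Tr.node (Tr.leaf [1,3,1,3]) (Tr.leaf [])) (Tr.node (Tr.leaf [4,7,4,7]) (Tr.leaf [])))) (Tr.node (Tr.node (Tr.node (Tr.leaf [0,5,0,5]) (Tr.leaf [])) (Tr.node (Tr.leaf [3,6,3,6]) (Tr.leaf []))) (Tr.node (Tr.node (Tr.leaf [1,7,1,7]) (Tr.leaf [])) (Tr.node (Tr.leaf [0,0]) (Tr.leaf []))))) (Tr.node (Tr.node (Tr.node (Tr.node (Tr.leaf [0,3,0,3]) (Tr.leaf [])) (Tr.node (Tr.leaf [3,4,3,4,3,4]) (Tr.leaf []))) (Tr.node (Tr.node (Tr.leaf [1,5,1,5]) (Tr.leaf [])) (Tr.node (Tr.leaf [5,7,5,7]) (Tr.leaf [])))) (Tr.node (Tr.node (Tr.node (Tr.leaf [0,7,0,7]) (Tr.leaf [])) (Tr.node (Tr.leaf [4,5,4,5,4,5]) (Tr.leaf [])))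 (Tr.node (Tr.node (Tr.leaf [2,4,2,4]) (Tr.leaf [])) (Tr.node (Tr.leaf [4,4]) (Tr.leaf [])))))) (Tr.node (Tr.node (Tr.node (Tr.node (Tr.node (Tr.leaf [0,2,0,2]) (Tr.leaf [])) (Tr.node (Tr.leaf [2,7,2,7,2,7]) (Tr.leaf []))) (Tr.node (Tr.node (Tr.leaf [1,4,1,4]) (Tr.leaf [])) (Tr.node (Tr.leaf [5,6,5,6,5,6]) (Tr.leaf [])))) (Tr.node (Tr.node (Tr.node (Tr.leaf [0,6,0,6]) (Tr.leaf [])) (Tr.node (Tr.leaf [3,7,3,7]) (Tr.leaf []))) (Tr.node (Tr.node (Tr.leaf [2,3,2,3,2,3]) (Tr.leaf [])) (Tr.node (Tr.leaf [2,2]) (Tr.leaf []))))) (Tr.node (Tr.node (Tr.node (Tr.node (Tr.leaf [0,4,0,4]) (Tr.leaf [])) (Tr.node (Tr.leaf [3,5,3,5]) (Tr.leaf []))) (Tr.node (Tr.node (Tr.leaf [1,6,1,6]) (Tr.leaf [])) (Tr.node (Tr.leaf [6,7,6,7]) (Tr.leaf [])))) (Tr.node (Tr.node (Tr.node (Tr.leaf [1,2,1,2,1,2]) (Tr.leaf [])) (Tr.node (Tr.leaf [4,6,4,6]) (Tr.leaf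 []))) (Tr.node (Tr.node (Tr.leaf [2,5,2,5]) (Tr.leaf [])) (Tr.node (Tr.leaf [6,6]) (Tr.leaf []))))))))

/-- The witnesses of the rotations. -/
noncomputable def witT : Tr (Nat × Nat × Bool) := (Tr.node (Tr.node (Tr.node (Tr.node (Tr.node (Tr.node (Tr.node (Tr.leaf (0,0,false)) (Tr.leaf (28,7,false))) (Tr.node (Tr.leaf (15,2,false)) (Tr.leaf (0,0,false)))) (Tr.node (Tr.node (Tr.leaf (7,2,false)) (Tr.leaf (0,0,false))) (Tr.node (Tr.leaf (23,2,false)) (Tr.leaf (0,0,false))))) (Tr.node (Tr.node (Tr.node (Tr.leaf (3,2,false)) (Tr.leaf (0,0,false))) (Tr.node (Tr.leaf (19,2,false)) (Tr.leaf (0,0,false)))) (Tr.node (Tr.node (Tr.leaf (11,2,false)) (Tr.leaf (0,0,false))) (Tr.node (Tr.leaf (27,2,false)) (Tr.leaf (0,0,false)))))) (Tr.node (Tr.node (Tr.node (Tr.node (Tr.leaf (1,2,false)) (Tr.leaf (0,0,false))) (Tr.node (Tr.leaf (17,2,false))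 (Tr.leaf (0,0,false)))) (Tr.node (Tr.node (Tr.leaf (9,2,false)) (Tr.leaf (0,0,false))) (Tr.node (Tr.leaf (25,2,false)) (Tr.leaf (0,0,false))))) (Tr.node (Tr.node (Tr.node (Tr.leaf (5,2,false)) (Tr.leaf (0,0,false))) (Tr.node (Tr.leaf (21,2,false)) (Tr.leaf (0,0,false)))) (Tr.node (Tr.node (Tr.leaf (13,2,false)) (Tr.leaf (0,0,false))) (Tr.node (Tr.leaf (28,3,false)) (Tr.leaf (0,0,false))))))) (Tr.node (Tr.node (Tr.node (Tr.node (Tr.node (Tr.leaf (0,2,false)) (Tr.leaf (0,0,false))) (Tr.node (Tr.leaf (16,2,false)) (Tr.leaf (0,0,false)))) (Tr.node (Tr.node (Tr.leaf (8,2,false)) (Tr.leaf (0,0,false))) (Tr.node (Tr.leaf (24,2,false)) (Tr.leaf (0,0,false))))) (Tr.node (Tr.node (Tr.node (Tr.leaf (4,2,false)) (Tr.leaf (0,0,false))) (Tr.node (Tr.leaf (20,2,false)) (Tr.leaf (0,0,false)))) (Tr.node (Tr.node (Tr.leaf (12,2,false)) (Tr.leaf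 (0,0,false))) (Tr.node (Tr.leaf (28,1,false)) (Tr.leaf (0,0,false)))))) (Tr.node (Tr.node (Tr.node (Tr.node (Tr.leaf (2,2,false)) (Tr.leaf (0,0,false))) (Tr.node (Tr.leaf (18,2,false)) (Tr.leaf (0,0,false)))) (Tr.node (Tr.node (Tr.leaf (10,2,false)) (Tr.leaf (0,0,false))) (Tr.node (Tr.leaf (26,2,false)) (Tr.leaf (0,0,false))))) (Tr.node (Tr.node (Tr.node (Tr.leaf (6,2,false)) (Tr.leaf (0,0,false))) (Tr.node (Tr.leaf (22,2,false)) (Tr.leaf (0,0,false)))) (Tr.node (Tr.node (Tr.leaf (14,2,false)) (Tr.leaf (0,0,false))) (Tr.node (Tr.leaf (28,5,false)) (Tr.leaf (0,0,false)))))))) (Tr.node (Tr.node (Tr.node (Tr.node (Tr.node (Tr.node (Tr.leaf (0,1,false)) (Tr.leaf (0,0,false))) (Tr.node (Tr.leaf (16,1,false)) (Tr.leaf (0,0,false)))) (Tr.node (Tr.node (Tr.leaf (8,1,false)) (Tr.leaf (0,0,false))) (Tr.node (Tr.leaf (24,1,false)) (Tr.leaf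 (0,0,false))))) (Tr.node (Tr.node (Tr.node (Tr.leaf (4,1,false)) (Tr.leaf (0,0,false))) (Tr.node (Tr.leaf (20,1,false)) (Tr.leaf (0,0,false)))) (Tr.node (Tr.node (Tr.leaf (12,1,false)) (Tr.leaf (0,0,false))) (Tr.node (Tr.leaf (28,0,false)) (Tr.leaf (0,0,false)))))) (Tr.node (Tr.node (Tr.node (Tr.node (Tr.leaf (2,1,false)) (Tr.leaf (0,0,false))) (Tr.node (Tr.leaf (18,1,false)) (Tr.leaf (0,0,false)))) (Tr.node (Tr.node (Tr.leaf (10,1,false)) (Tr.leaf (0,0,false))) (Tr.node (Tr.leaf (26,1,false)) (Tr.leaf (0,0,false))))) (Tr.node (Tr.node (Tr.node (Tr.leaf (6,1,false)) (Tr.leaf (0,0,false))) (Tr.node (Tr.leaf (22,1,false)) (Tr.leaf (0,0,false)))) (Tr.node (Tr.node (Tr.leaf (14,1,false)) (Tr.leaf (0,0,false))) (Tr.node (Tr.leaf (28,4,false)) (Tr.leaf (0,0,false))))))) (Tr.node (Tr.node (Tr.node (Tr.node (Tr.node (Tr.leaf (1,1,false))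 (Tr.leaf (0,0,false))) (Tr.node (Tr.leaf (17,1,false)) (Tr.leaf (0,0,false)))) (Tr.node (Tr.node (Tr.leaf (9,1,false)) (Tr.leaf (0,0,false))) (Tr.node (Tr.leaf (25,1,false)) (Tr.leaf (0,0,false))))) (Tr.node (Tr.node (Tr.node (Tr.leaf (5,1,false)) (Tr.leaf (0,0,false))) (Tr.node (Tr.leaf (21,1,false)) (Tr.leaf (0,0,false)))) (Tr.node (Tr.node (Tr.leaf (13,1,false)) (Tr.leaf (0,0,false))) (Tr.node (Tr.leaf (28,2,false)) (Tr.leaf (0,0,false)))))) (Tr.node (Tr.node (Tr.node (Tr.node (Tr.leaf (3,1,false)) (Tr.leaf (0,0,false))) (Tr.node (Tr.leaf (19,1,false)) (Tr.leaf (0,0,false)))) (Tr.node (Tr.node (Tr.leaf (11,1,false)) (Tr.leaf (0,0,false))) (Tr.node (Tr.leaf (27,1,false)) (Tr.leaf (0,0,false))))) (Tr.node (Tr.node (Tr.node (Tr.leaf (7,1,false)) (Tr.leaf (0,0,false))) (Tr.node (Tr.leaf (23,1,false)) (Tr.leaf (0,0,false))))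 (Tr.node (Tr.node (Tr.leaf (15,1,false)) (Tr.leaf (0,0,false))) (Tr.node (Tr.leaf (28,6,false)) (Tr.leaf (0,0,false)))))))))

/-- The subgroup rotations. -/
noncomputable def srotT : Tr (List Nat × Nat × List Nat) := (Tr.node (Tr.node (Tr.node (Tr.leaf ([],0,[])) (Tr.leaf ([],4,[]))) (Tr.node (Tr.leaf ([],2,[])) (Tr.leaf ([],7,[])))) (Tr.node (Tr.node (Tr.leaf ([],1,[])) (Tr.leaf ([],5,[]))) (Tr.node (Tr.leaf ([],3,[])) (Tr.leaf ([],0,[])))))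

/-- The certificate. -/
noncomputable def cert : Cert :=
  mkCert 8 240 1920 1 65 72 5 31 239 26 208 228 67108863 1048575 11 8 2047 255 19 16 7 ctree.get rotT.get srotT.get

/-- The letters. -/
def ls : List Nat := [1,2,3,4,5,6,7,8]

/-- The smaller letters. -/
def ls' : List Nat := [1,2,3,4,5,6,8]

/-- The inverses. -/
def inv' (c : Nat) : Nat := [0,1,2,3,4,5,6,7].getD c 0

/-- The relators. -/
def rels' : List (List Nat) :=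
  [[1,0,1,0,1,0],
   [2,0,2,0],
   [3,0,3,0],
   [4,0,4,0],
   [5,0,5,0],
   [6,0,6,0],
   [7,0,7,0],
   [2,1,2,1,2,1],
   [3,1,3,1],
   [4,1,4,1],
   [5,1,5,1],
   [6,1,6,1],
   [7,1,7,1],
   [3,2,3,2,3,2],
   [4,2,4,2],
   [5,2,5,2],
   [6,2,6,2],
   [7,2,7,2,7,2],
   [4,3,4,3,4,3],
   [5,3,5,3],
   [6,3,6,3],
   [7,3,7,3],
   [5,4,5,4,5,4],
   [6,4,6,4],
   [7,4,7,4],
   [6,5,6,5,6,5],
   [7,5,7,5],
   [7,6,7,6]]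

/-- The words of the subgroup. -/
def subs' : List (List Nat) :=
  [[0],
   [1],
   [2],
   [3],
   [4],
   [5],
   [7]]

end Cfsg.Agent.Lib.Schur.Fi23c.E1.Tab
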